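import Groth.Agent.Sga3.H798.MaxTorCent
import Groth.Agent.Sga3.H828.MTGeom
import Groth.Agent.Sga3.H784.NAMain

/-!
# Base change of maximal tori and of Cartan subgroups

* `isMaximalTorus_bc`: maximal tori of a group locally of finite type are stable under any base change;
* `isCartan_bc`: Cartan subgroups are stable under any base change.
-/

set_option autoImplicit false
universe u
open CategoryTheory MonoidalCategory CartesianMonoidalCategory MonObj GrpObj AlgebraicGeometry Limits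

namespace Groth.Agent.Sga3.H766.CartanBc

open Groth.Agent.Sga3B Groth.Agent.Sga3B.AlgBc Groth.Agent.Sga3B.BcNat Groth.Agent.Sga3B.RedIso
  Groth.Agent.Sga3B.TorusBc Groth.Agent.Sga3.H798

variable {S S' : Scheme.{u}}

section field

variable {K L : Type u} [Field K] [Field L]

/-- Over a field, maximality on geometric fibres implies maximality. -/
theorem isMaxTorOver_of_isMaximalTorus {T G : Over (Spec (CommRingCat.of K))} [GrpObj T] [GrpObj G]
    {i : T ⟶ G} (h : Red.IsMaximalTorus i) : IsMaxTorOver i :=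
  H828.MTGeom.isMaxTorOver_of_bc (Red.geomPt (IsLocalRing.closedPoint K)) (h.2.2.2 _)

end field

/-- **Maximal tori are stable under any base change.** -/
theorem isMaximalTorus_bc (f : S' ⟶ S) {T G : Over S} [GrpObj T] [GrpObj G]
    [LocallyOfFiniteType G.hom] {i : T ⟶ G} (h : Red.IsMaximalTorus i) :
    Red.IsMaximalTorus ((Over.pullback f).map i) := by
  have h1 := h.1
  have h2 := h.2.1
  refine ⟨inferInstance, inferInstance, TorusBc.isTorus_bc f h.2.2.1, fun s' => ?_⟩
  obtain ⟨θ, hθ⟩ := H828.MTGeom.exists_geomPt f s'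
  have h3 := MaxTorCent.isMaximalTorus_geomFibre h (f s')
  have h5 : LocallyOfFiniteType ((Over.pullback (Red.geomPt (f s'))).obj G).hom :=
    MorphismProperty.pullback_snd (P := @LocallyOfFiniteType) _ _ inferInstance
  have h4 := (H784.NAMain.isMaximalTorus_pullback_iff θ
    ((Over.pullback (Red.geomPt (f s'))).map i) inferInstance h3.2.2.1).mpr h3
  exact isMaxTorOver_of_arrow (fibIso hθ T).symm (fibIso hθ G).symm (fib_arrow hθ i)
    (isMaxTorOver_of_isMaximalTorus h4)

lemma isMaximalTorus_comp_iso {T G G' : Over S} [GrpObj T] [GrpObj G] [GrpObj G'] {t : T ⟶ G}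
    (e : Grp.mk G ≅ Grp.mk G') (h : Red.IsMaximalTorus t) : Red.IsMaximalTorus (t ≫ (und e).hom) :=
  AlgBc.isMaximalTorus_of_arrow (Iso.refl _) e (Category.id_comp _).symm h

section cart

variable {K L : Type u} [Field K] [IsAlgClosed K] [Field L] [IsAlgClosed L]

theorem isCartanOver_bc (θ : Spec (CommRingCat.of L) ⟶ Spec (CommRingCat.of K))
    {C G : Over (Spec (CommRingCat.of K))} [GrpObj C] [GrpObj G] [LocallyOfFiniteType G.hom]
    (c : C ⟶ G) (h : SGA3x.IsCartanOver K c) : SGA3x.IsCartanOver L ((Over.pullback θ).map c) := by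
  obtain ⟨h1, h2, T, _, i, hi, hc⟩ := h
  exact ⟨inferInstance, inferInstance, _, inferInstance, (Over.pullback θ).map i,
    (H784.NAMain.isMaximalTorus_pullback_iff θ i hi.1 hi.2.2.1).mpr hi,
    SplitBc264.isCentralizerOf_bc θ hc⟩

end cart

theorem isCartanOver_of_arrow {K : Type u} [Field K]
    {C G C₁ G₁ : Over (Spec (CommRingCat.of K))} [GrpObj C] [GrpObj G] [GrpObj C₁] [GrpObj G₁]
    {c : C ⟶ G} {c₁ : C₁ ⟶ G₁} (φ : Grp.mk C ≅ Grp.mk C₁) (ψ : Grp.mk G ≅ Grp.mk G₁)
    (hc : c ≫ (und ψ).hom = (und φ).hom ≫ c₁) (h : SGA3x.IsCartanOver K c) :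
    SGA3x.IsCartanOver K c₁ := by
  obtain ⟨h1, h2, T, _, i, hi, h3⟩ := h
  have e : c₁ = (und φ).inv ≫ c ≫ (und ψ).hom := by rw [hc, Iso.inv_hom_id_assoc]
  have m1 : IsMonHom (und φ).inv := inferInstanceAs (IsMonHom φ.inv.hom.hom)
  have m2 : IsMonHom (und ψ).hom := inferInstanceAs (IsMonHom ψ.hom.hom.hom)
  have m3 : IsMonHom (und ψ).inv := inferInstanceAs (IsMonHom ψ.inv.hom.hom)
  have hm : IsMonHom c₁ := by rw [e]; infer_instance
  have hmo : Mono c₁ := by rw [e]; infer_instance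
  refine ⟨hm, hmo, T, inferInstance, i ≫ (und ψ).hom, isMaximalTorus_comp_iso ψ hi, hm, hmo,
    fun X g => ?_⟩
  have key : (∃ z : X ⟶ C₁, z ≫ c₁ = g) ↔ ∃ z : X ⟶ C, z ≫ c = g ≫ (und ψ).inv := by
    constructor
    · rintro ⟨z, rfl⟩
      refine ⟨z ≫ (und φ).inv, ?_⟩
      rw [e]
      simp only [Category.assoc, Iso.hom_inv_id, Category.comp_id]
    · rintro ⟨z, hz⟩
      refine ⟨z ≫ (und φ).hom, ?_⟩
      rw [Category.assoc, ← hc, ← Category.assoc, hz, Category.assoc, Iso.inv_hom_id,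
        Category.comp_id]
  rw [key, h3.2.2]
  refine forall_congr' fun X' => forall_congr' fun x => forall_congr' fun t => ?_
  have e1 : (x ≫ g ≫ (und ψ).inv) * (t ≫ i) =
      ((x ≫ g) * (t ≫ i ≫ (und ψ).hom)) ≫ (und ψ).inv := by
    rw [MonObj.mul_comp]
    simp only [Category.assoc, Iso.hom_inv_id, Category.comp_id]
  have e2 : (t ≫ i) * (x ≫ g ≫ (und ψ).inv) =
      ((t ≫ i ≫ (und ψ).hom) * (x ≫ g)) ≫ (und ψ).inv := by
    rw [MonObj.mul_comp]
    simp only [Category.assoc, Iso.hom_inv_id, Category.comp_id]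
  rw [e1, e2, cancel_mono]

/-- **Cartan subgroups are stable under any base change.** -/
theorem isCartan_bc (f : S' ⟶ S) {C G : Over S} [GrpObj C] [GrpObj G]
    [LocallyOfFiniteType G.hom] {c : C ⟶ G} (h : SGA3x.IsCartan c) :
    SGA3x.IsCartan ((Over.pullback f).map c) := by
  obtain ⟨h1, h2, h3, h4⟩ := h
  have h5 : Smooth ((Over.pullback f).obj C).hom :=
    MorphismProperty.pullback_snd (P := @Smooth) C.hom f h3
  refine ⟨inferInstance, inferInstance, h5, fun s' => ?_⟩
  obtain ⟨θ, hθ⟩ := H828.MTGeom.exists_geomPt f s'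
  have h6 : LocallyOfFiniteType ((Over.pullback (Red.geomPt (f s'))).obj G).hom :=
    MorphismProperty.pullback_snd (P := @LocallyOfFiniteType) _ _ inferInstance
  exact isCartanOver_of_arrow (fibIso hθ C).symm (fibIso hθ G).symm (fib_arrow hθ c)
    (isCartanOver_bc θ _ (h4 (f s')))

end Groth.Agent.Sga3.H766.CartanBc
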