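import Groth.Agent.Sga3.H766.CartanBc
import Groth.Agent.Sga3.H799.FibCrit

/-!
# A Cartan subgroup is the centralizer of each maximal torus it contains

`isCentralizerOf`: `c : C ⟶ G` a Cartan subgroup of a smooth separated group, `j : R ⟶ C` such that
`j ≫ c` is a maximal torus of `G`: then `C` is the centralizer of `R`, and two such `R` are equal.
-/

set_option autoImplicit false
universe u
open CategoryTheory MonoidalCategory CartesianMonoidalCategory MonObj GrpObj AlgebraicGeometry Limits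

namespace Groth.Agent.Sga3.H766.CartanCent

open Groth.Agent.Sga3B Groth.Agent.Sga3B.AlgBc Groth.Agent.Sga3B.BcNat Groth.Agent.Sga3B.RedIso
  Groth.Agent.Sga3B.TorusBc Groth.Agent.Sga3.H798 CartanBc

variable {S : Scheme.{u}}

lemma isMonHom_of_comp {R C G : Over S} [GrpObj R] [GrpObj C] [GrpObj G] (j : R ⟶ C) (c : C ⟶ G)
    [IsMonHom c] [Mono c] (h : IsMonHom (j ≫ c)) : IsMonHom j := by
  refine InfConjFam.isMonHom_of_mul _ fun T d d' => ?_
  have e1 := MonObj.mul_comp d d' (j ≫ c)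
  have e2 := MonObj.mul_comp (d ≫ j) (d' ≫ j) c
  rw [← cancel_mono c, Category.assoc, e1, e2, Category.assoc, Category.assoc]

lemma isCentralizerOf_of_points {H G Z Z' : Over S} [GrpObj G] [GrpObj H] [GrpObj Z] [GrpObj Z']
    {i : H ⟶ G} {j : Z ⟶ G} {j' : Z' ⟶ G} (h : Red.IsCentralizerOf i j) (h1 : IsMonHom j')
    (h2 : Mono j') (h3 : ∀ (X : Over S) (g : X ⟶ G), (∃ z : X ⟶ Z', z ≫ j' = g) ↔
      ∃ z : X ⟶ Z, z ≫ j = g) : Red.IsCentralizerOf i j' :=
  ⟨h1, h2, fun X g => (h3 X g).trans (h.2.2 X g)⟩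

/-- The case of an algebraically closed field. -/
theorem isCentralizerOf_field {K : Type u} [Field K] {R C G : Over (Spec (CommRingCat.of K))}
    [GrpObj R] [GrpObj C] [GrpObj G] [IsSeparated G.hom] [LocallyOfFiniteType G.hom] (c : C ⟶ G)
    (hc : SGA3x.IsCartanOver K c) (j : R ⟶ C) (hj : Red.IsMaximalTorus (j ≫ c)) :
    Red.IsCentralizerOf (j ≫ c) c := by
  obtain ⟨h1, h2, T, _, i, hi, h3⟩ := hc
  obtain ⟨φ, hφ⟩ := MaxTorCent.exists_iso_of_comm i hi (j ≫ c) hj fun X t r => by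
    have := (h3.2.2 X (r ≫ j ≫ c)).mp ⟨r ≫ j, Category.assoc _ _ _⟩ X (𝟙 X) t
    rw [Category.id_comp] at this
    exact this.symm
  refine ⟨h1, h2, fun X g => ?_⟩
  rw [h3.2.2 X g]
  refine forall_congr' fun X' => forall_congr' fun x => ⟨fun h r => ?_, fun h t => ?_⟩
  · rw [← hφ, ← Category.assoc]
    exact h _
  · have := h (t ≫ φ.inv)
    rwa [← hφ, Category.assoc, Iso.inv_hom_id_assoc] at this

variable {R C G : Over S} [GrpObj R] [GrpObj C] [GrpObj G] [Smooth G.hom] [IsSeparated G.hom]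
  (c : C ⟶ G) (hc : SGA3x.IsCartan c) (j : R ⟶ C) (hj : Red.IsMaximalTorus (j ≫ c))

include hc hj

lemma isCentralizerOf_fibre (s : S) : Red.IsCentralizerOf
    ((Over.pullback (Red.geomPt s)).map j ≫ (Over.pullback (Red.geomPt s)).map c)
    ((Over.pullback (Red.geomPt s)).map c) := by
  have h6 : LocallyOfFiniteType ((Over.pullback (Red.geomPt s)).obj G).hom :=
    MorphismProperty.pullback_snd (P := @LocallyOfFiniteType) _ _ inferInstance
  have h7 : IsSeparated ((Over.pullback (Red.geomPt s)).obj G).hom :=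
    MorphismProperty.pullback_snd (P := @IsSeparated) _ _ inferInstance
  refine isCentralizerOf_field _ (hc.2.2.2 s) _ ?_
  rw [← Functor.map_comp]
  exact MaxTorCent.isMaximalTorus_geomFibre hj s

/-- `R` is central in `C`. -/
theorem comm (X : Over S) (x : X ⟶ C) (r : X ⟶ R) : x * (r ≫ j) = (r ≫ j) * x := by
  have hc1 := hc.1
  have hc2 := hc.2.1
  have hc3 := hc.2.2.1
  have hj1 : IsMonHom j := isMonHom_of_comp j c hj.1
  have hsep : IsSeparated C.hom := by
    have h1 : Mono c.left := inferInstanceAs (Mono ((Over.forget S).map c))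
    rw [← Over.w c]
    infer_instance
  obtain ⟨Z, _, z, hz, hzc, hzs, hzf⟩ := CentSep.exists_smooth_centralizer j hj.2.2.1
  have hz1 := hz.1
  have hz2 := hz.2.1
  have hiso : IsIso z := by
    refine H799.FibCrit.isIso_of_points z fun s => ⟨_, inferInstance, Red.geomPt s, ?_, ?_⟩
    · obtain ⟨y, hy⟩ := SubTorus.mem_range_geomPt s
      rw [Subsingleton.elim (IsLocalRing.closedPoint _) y, hy]
    · have k1 := SplitBc264.isCentralizerOf_bc (Red.geomPt s) hz
      have k2 := isCentralizerOf_fibre c hc j hj s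
      obtain ⟨w, hw⟩ := (k1.2.2 _ (𝟙 _)).mpr fun X' x h => by
        have k3 := (k2.2.2 X' (x ≫ (Over.pullback (Red.geomPt s)).map c)).mp ⟨x, rfl⟩ X' (𝟙 _) h
        rw [Category.id_comp, ← Category.assoc h, ← MonObj.mul_comp, ← MonObj.mul_comp,
          cancel_mono] at k3
        rw [Category.comp_id]
        exact k3
      have : IsSplitEpi ((Over.pullback (Red.geomPt s)).map z) := ⟨⟨⟨w, hw⟩⟩⟩
      exact isIso_of_mono_of_isSplitEpi _
  have := (hz.2.2 X x).mp ⟨x ≫ CategoryTheory.inv z, by rw [Category.assoc, IsIso.inv_hom_id,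
    Category.comp_id]⟩ X (𝟙 X) r
  rwa [Category.id_comp] at this

/-- **A Cartan subgroup is the centralizer of any maximal torus of `G` contained in it.** -/
theorem isCentralizerOf : Red.IsCentralizerOf (j ≫ c) c := by
  have hc1 := hc.1
  have hc2 := hc.2.1
  have hc3 := hc.2.2.1
  have hj1 := hj.1
  obtain ⟨Z, _, z, hz, hzc, hzs, hzf⟩ := CentSep.exists_smooth_centralizer (j ≫ c) hj.2.2.1
  have hz1 := hz.1
  have hz2 := hz.2.1
  obtain ⟨l, hl⟩ := (hz.2.2 C c).mpr fun X x r => by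
    rw [← Category.assoc r, ← MonObj.mul_comp, ← MonObj.mul_comp, comm c hc j hj X x r]
  have hlm : Mono (l ≫ z) := by rw [hl]; infer_instance
  have hlm' : Mono l := mono_of_mono l z
  have hiso : IsIso l := by
    refine H799.FibCrit.isIso_of_points l fun s => ⟨_, inferInstance, Red.geomPt s, ?_, ?_⟩
    · obtain ⟨y, hy⟩ := SubTorus.mem_range_geomPt s
      rw [Subsingleton.elim (IsLocalRing.closedPoint _) y, hy]
    · have k1 := SplitBc264.isCentralizerOf_bc (Red.geomPt s) hz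
      have k2 := isCentralizerOf_fibre c hc j hj s
      rw [Functor.map_comp] at k1
      obtain ⟨w, hw⟩ := (k2.2.2 _ ((Over.pullback (Red.geomPt s)).map z)).mpr
        ((k1.2.2 _ ((Over.pullback (Red.geomPt s)).map z)).mp ⟨𝟙 _, Category.id_comp _⟩)
      have hw' : w ≫ (Over.pullback (Red.geomPt s)).map l = 𝟙 _ := by
        rw [← cancel_mono ((Over.pullback (Red.geomPt s)).map z), Category.assoc,
          ← Functor.map_comp, hl, hw, Category.id_comp]
      have : IsSplitEpi ((Over.pullback (Red.geomPt s)).map l) := ⟨⟨⟨w, hw'⟩⟩⟩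
      exact isIso_of_mono_of_isSplitEpi _
  refine isCentralizerOf_of_points hz hc1 hc2 fun X g => ⟨?_, ?_⟩
  · rintro ⟨w, rfl⟩
    exact ⟨w ≫ l, by rw [Category.assoc, hl]⟩
  · rintro ⟨w, rfl⟩
    exact ⟨w ≫ CategoryTheory.inv l, by rw [Category.assoc, ← hl, IsIso.inv_hom_id_assoc]⟩

/-- **Uniqueness** of the maximal torus of `G` contained in a Cartan subgroup. -/
theorem exists_iso {R' : Over S} [GrpObj R'] (j' : R' ⟶ C) (hj' : Red.IsMaximalTorus (j' ≫ c)) :
    ∃ φ : R' ≅ R, φ.hom ≫ j = j' := by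
  have hc1 := hc.1
  have hc2 := hc.2.1
  obtain ⟨φ, hφ⟩ := MaxTorCent.exists_iso_of_comm (j ≫ c) hj (j' ≫ c) hj' fun X t r => by
    rw [← Category.assoc, ← Category.assoc, ← MonObj.mul_comp, ← MonObj.mul_comp,
      comm c hc j' hj' X (t ≫ j) r]
  refine ⟨φ, ?_⟩
  rw [← cancel_mono c, Category.assoc, hφ]

end Groth.Agent.Sga3.H766.CartanCent
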