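import Groth.Agent.Sga3.H766.CartanCent
import Groth.Agent.RedSub.H647.TorF
import Groth.Agent.Sga3.H798.TorusClosed

/-!
# Descent of the maximal torus of a Cartan subgroup

`C` a Cartan subgroup of the smooth separated group `G` of finite type.

* `main_fpqc`: if fpqc locally `C` contains a maximal torus of `G`, then `C` is the centralizer of a maximal torus
  of `G`;
* `main_cent`: the same if fpqc locally `C` is the centralizer of a maximal torus of `G`;
* `main_of_loc`: the same if `G` has fpqc locally a maximal torus, and every Cartan subgroup of a group with a maximal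
  torus is étale locally the centralizer of a maximal torus.
-/

set_option autoImplicit false
universe u
open CategoryTheory MonoidalCategory CartesianMonoidalCategory MonObj GrpObj AlgebraicGeometry Limits Opposite

namespace Groth.Agent.Sga3.H766.CartanEnd

open Groth.Agent.Sga3B Groth.Agent.Sga3B.AlgBc Groth.Agent.Sga3B.BcNat Groth.Agent.Sga3B.RedIso
  Groth.Agent.Sga3B.TorusBc Groth.Agent.Sga3.H798 CartanBc CartanCent Groth.Agent.RedSub.H647.SubF
  Groth.Agent.RedSub.H647.SubPt Groth.Agent.Sga3B.MT Groth.Agent.RedSub.H647.QCov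

/-- The condition on the underlying map of an fpqc covering. -/
def Qc {P S : Scheme.{u}} (q : P ⟶ S) : Prop := ∀ V : S.Opens, IsAffineOpen V →
  ∃ W : P.Opens, IsCompact (W : Set P) ∧ q.base '' (W : Set P) = (V : Set S)

section bcSub

variable {S S' S'' : Scheme.{u}}

lemma bcSub_comp (q : S'' ⟶ S') {f : S' ⟶ S} {C G : Over S} (c : C ⟶ G) {H : Over S'}
    (h : H ⟶ Red.bc f C) :
    bcSub q h ≫ (Over.pullback (q ≫ f)).map c = bcSub q (h ≫ (Over.pullback f).map c) := by
  rw [bcSub, bcSub, Category.assoc, Functor.map_comp, Category.assoc]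
  congr 1
  exact ((Over.pullbackComp q f).inv.naturality c).symm

end bcSub

variable {S : Scheme.{u}} {C G : Over S} [GrpObj C] [GrpObj G]

/-- the class of closed subgroups of `C` which are maximal tori of `G` -/
def cls (c : C ⟶ G) [LocallyOfFiniteType G.hom] : SubClass C where
  Q f _ _ h := IsMonHom h ∧ IsClosedImmersion h.left ∧
    Red.IsMaximalTorus (h ≫ (Over.pullback f).map c)
  isMonHom hh := hh.1
  isClosedImmersion hh := hh.2.1
  of_iso {S' f H H' _ _ h h'} e he hh := by
    obtain ⟨h1, h2, h3⟩ := hh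
    have m1 : IsMonHom (und e).inv := inferInstanceAs (IsMonHom e.inv.hom.hom)
    have he' : (und e).inv ≫ h = h' := by
      rw [← he]
      exact (und e).inv_hom_id_assoc h'
    refine ⟨?_, ?_, ?_⟩
    · rw [← he']
      infer_instance
    · rw [← he', Over.comp_left]
      infer_instance
    · refine AlgBc.isMaximalTorus_of_arrow e (Iso.refl _) ?_ h3
      rw [← he']
      simp only [Category.assoc, Iso.hom_inv_id_assoc]
      exact congrArg (h ≫ ·) (Category.comp_id _)
  bc {S' S''} q {f H _ h} hh := by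
    obtain ⟨h1, h2, h3⟩ := hh
    refine ⟨isMonHom_bcSub q h, isClosedImmersion_bcSub q h, ?_⟩
    rw [bcSub_comp]
    have : LocallyOfFiniteType (Red.bc f G).hom :=
      MorphismProperty.pullback_snd (P := @LocallyOfFiniteType) _ _ inferInstance
    exact (Groth.Agent.RedSub.H647.TorF.isMaximalTorus_bcSub_iff q _).2 (isMaximalTorus_bc q h3)

lemma isLocal_cls (c : C ⟶ G) [IsMonHom c] [Mono c] [LocallyOfFiniteType G.hom] :
    (cls c).IsLocal (fun {_ _ _} q => ∃ j, Flat (q j) ∧ Surjective (q j) ∧ Qc (q j)) := by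
  rintro S' f J S'' q ⟨j, hj1, hj2, hj3⟩ H _ h h1 h2 h3
  have : Mono h := Sga3C.ClosedSub.mono_of_left h
  refine ⟨h1, h2, H828.MTGeom.isMaximalTorus_of_fpqcCover (q j) hj3 _ inferInstance inferInstance ?_⟩
  have h4 := (h3 j).2.2
  rw [bcSub_comp] at h4
  exact (Groth.Agent.RedSub.H647.TorF.isMaximalTorus_bcSub_iff (q j) _).1 h4

lemma pt_of_iso {S' : Scheme.{u}} {f : S' ⟶ S} {H H' : Over S'} {h : H ⟶ Red.bc f G}
    {h' : H' ⟶ Red.bc f G} (φ : H ⟶ H') (hφ : φ ≫ h' = h) {X : Scheme.{u}} (y : X ⟶ S')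
    (g : X ⟶ G.left) (w : Pt h y g) : Pt h' y g := by
  obtain ⟨p, h1, h2⟩ := w
  refine ⟨p ≫ φ.left, ?_, ?_⟩
  · rw [Category.assoc, Over.w φ, h1]
  · rw [← h2, ← hφ, Over.comp_left]
    simp only [Category.assoc]

variable [Smooth G.hom] [IsSeparated G.hom] (c : C ⟶ G) (hc : SGA3x.IsCartan c)

include hc in
lemma subsingleton_subsF (T : Over S) : Subsingleton ((cls c).subsF.obj (op T)) := by
  refine ⟨fun x y => ?_⟩
  obtain ⟨H, _, h, hQ, rfl⟩ := (cls c).exists_ofSub x
  obtain ⟨H', _, h', hQ', rfl⟩ := (cls c).exists_ofSub y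
  have : Smooth (Red.bc T.hom G).hom := MorphismProperty.pullback_snd (P := @Smooth) _ _ inferInstance
  have : IsSeparated (Red.bc T.hom G).hom :=
    MorphismProperty.pullback_snd (P := @IsSeparated) _ _ inferInstance
  obtain ⟨φ, hφ⟩ := exists_iso _ (isCartan_bc T.hom hc) h hQ.2.2 h' hQ'.2.2
  rw [SubClass.ofSub_eq_iff]
  intro X y g
  exact ⟨pt_of_iso φ.inv (by rw [← hφ, Iso.inv_hom_id_assoc]) y g, pt_of_iso φ.hom hφ y g⟩

variable [QuasiCompact G.hom]

include hc in
/-- **Descent**, for a closed subgroup of `C_P` which is a maximal torus of `G_P`. -/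
theorem main_fpqc_closed {P : Scheme.{u}} (q : P ⟶ S) [Flat q] [Surjective q] (hq : Qc q)
    {T : Over P} [GrpObj T] (j : T ⟶ Red.bc q C) (hj : Red.IsMaximalTorus (j ≫ (Over.pullback q).map c))
    (hcl : IsClosedImmersion j.left) :
    ∃ (T : Over S) (_ : GrpObj T) (i : T ⟶ G), Red.IsMaximalTorus i ∧ Red.IsCentralizerOf i c := by
  have hc1 := hc.1
  have hc2 := hc.2.1
  have hQ : (cls c).Q q j := ⟨isMonHom_of_comp j _ hj.1, hcl, hj⟩
  obtain ⟨y, -, -⟩ := (cls c).existsUnique_subsF (isLocal_cls c) (T := Over.mk (𝟙 S))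
    (J := PUnit.{u+1}) (fun _ => Over.mk q) (fun _ => Over.homMk q (Category.comp_id q))
    ⟨PUnit.unit, ‹Flat q›, ‹Surjective q›, hq⟩ (IsQCov.of_fpqc q hq)
    (fun _ => (cls c).ofSub (T := Over.mk q) hQ) fun _ _ R a b _ =>
      (subsingleton_subsF c hc R).elim _ _
  obtain ⟨H, _, h, hH, -⟩ := (cls c).exists_ofSub y
  have h1 : Red.IsMaximalTorus (h ≫ (Over.pullback (𝟙 S)).map c) := hH.2.2
  have h2 := isMaximalTorus_comp_iso (BcIso.bcIdIso G) h1
  rw [Category.assoc, ← id_nat, ← Category.assoc] at h2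
  exact ⟨H, inferInstance, _, h2, isCentralizerOf c hc _ h2⟩

include hc in
/-- **Descent of the maximal torus**: a Cartan subgroup which fpqc locally contains a maximal torus of `G` is the
centralizer of a maximal torus of `G`. -/
theorem main_fpqc {P : Scheme.{u}} (q : P ⟶ S) [Flat q] [Surjective q] (hq : Qc q)
    {T : Over P} [GrpObj T] (j : T ⟶ Red.bc q C) (hj : Red.IsMaximalTorus (j ≫ (Over.pullback q).map c)) :
    ∃ (T : Over S) (_ : GrpObj T) (i : T ⟶ G), Red.IsMaximalTorus i ∧ Red.IsCentralizerOf i c := by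
  refine main_fpqc_closed c hc q hq j hj ?_
  have hc1 := hc.1
  have hc2 := hc.2.1
  have hG : IsSeparated (Red.bc q G).hom :=
    MorphismProperty.pullback_snd (P := @IsSeparated) _ _ inferInstance
  have hG2 : LocallyOfFiniteType (Red.bc q G).hom :=
    MorphismProperty.pullback_snd (P := @LocallyOfFiniteType) _ _ inferInstance
  have hG3 : QuasiCompact (Red.bc q G).hom :=
    MorphismProperty.pullback_snd (P := @QuasiCompact) _ _ inferInstance
  have hj1 := hj.1
  have hj2 := hj.2.1
  have h1 := TorusClosed.isClosedImmersion_of_torus (j ≫ (Over.pullback q).map c) hj.2.2.1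
  rw [Over.comp_left] at h1
  have h2 : Mono ((Over.pullback q).map c).left :=
    inferInstanceAs (Mono ((Over.forget P).map ((Over.pullback q).map c)))
  exact IsClosedImmersion.of_comp j.left ((Over.pullback q).map c).left

include hc in
/-- The same, if the Cartan subgroup is fpqc locally the centralizer of a maximal torus. -/
theorem main_cent {P : Scheme.{u}} (q : P ⟶ S) [Flat q] [Surjective q] (hq : Qc q)
    {T : Over P} [GrpObj T] (i : T ⟶ Red.bc q G) (hi : Red.IsMaximalTorus i)
    (hcent : Red.IsCentralizerOf i ((Over.pullback q).map c)) :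
    ∃ (T : Over S) (_ : GrpObj T) (i : T ⟶ G), Red.IsMaximalTorus i ∧ Red.IsCentralizerOf i c := by
  have hi0 := hi.1
  obtain ⟨j, hj⟩ := (hcent.2.2 T i).mpr fun X x t => by
    rw [← MonObj.mul_comp, ← MonObj.mul_comp, MaxTorNear900.mul_comm_of_isTorus hi.2.2.1]
  exact main_fpqc c hc q hq j (hj.symm ▸ hi)

/-- Fpqc coverings compose with étale surjective morphisms. -/
lemma qc_comp {P P' S : Scheme.{u}} (q' : P' ⟶ P) (q : P ⟶ S) (h' : Qc q') (h : Qc q) :
    Qc (q' ≫ q) := by
  intro V hV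
  obtain ⟨W, hW, hWV⟩ := h V hV
  obtain ⟨W', hW', hWW'⟩ := AlgBc.qc_cover_of_isCompact q' h' W hW
  refine ⟨W', hW', ?_⟩
  have e : (q' ≫ q).base = q.base ∘ q'.base := by ext x; simp
  rw [e, Set.image_comp, hWW', hWV]

/-- Étale locally a Cartan subgroup is the centralizer of a maximal torus, if the group has a maximal torus. -/
def LocCent : Prop := ∀ {S : Scheme.{u}} {G T C : Over S} [GrpObj G] [GrpObj T] [GrpObj C], Smooth G.hom →
  IsSeparated G.hom → QuasiCompact G.hom → ∀ (i : T ⟶ G), Red.IsMaximalTorus i → ∀ (c : C ⟶ G),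
    SGA3x.IsCartan c → ∃ (V : Scheme.{u}) (π : V ⟶ S), Etale π ∧ Surjective π ∧
      ∃ (T1 : Over V) (_ : GrpObj T1) (i1 : T1 ⟶ Red.bc π G), Red.IsMaximalTorus i1 ∧
        Red.IsCentralizerOf i1 ((Over.pullback π).map c)

include hc in
/-- Reduction of the statement to `LocCent`. -/
theorem main_of_loc (hB : LocCent.{u}) (hG : SGA3x.HasMaxTorusFpqcLocally G) :
    ∃ (T : Over S) (_ : GrpObj T) (i : T ⟶ G), Red.IsMaximalTorus i ∧ Red.IsCentralizerOf i c := by
  obtain ⟨S', f, hf1, hf2, hf3, T, _, i, hi⟩ := hG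
  have h1 : Smooth (Red.bc f G).hom := MorphismProperty.pullback_snd (P := @Smooth) _ _ inferInstance
  have h2 : IsSeparated (Red.bc f G).hom :=
    MorphismProperty.pullback_snd (P := @IsSeparated) _ _ inferInstance
  have h3 : QuasiCompact (Red.bc f G).hom :=
    MorphismProperty.pullback_snd (P := @QuasiCompact) _ _ inferInstance
  obtain ⟨V, π, hπ1, hπ2, T1, _, i1, hi1, hcent⟩ := hB h1 h2 h3 i hi _ (isCartan_bc f hc)
  have hi0 := hi1.1
  obtain ⟨j, hj⟩ := (hcent.2.2 T1 i1).mpr fun X x t => by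
    rw [← MonObj.mul_comp, ← MonObj.mul_comp, MaxTorNear900.mul_comm_of_isTorus hi1.2.2.1]
  have hq : Qc (π ≫ f) := qc_comp π f (AlgBc.qc_cover_of_isOpenMap π π.isOpenMap) hf3
  refine main_fpqc c hc (π ≫ f) hq (j ≫ (und (BcIso.bcCompIso π f C)).inv) ?_
  rw [Category.assoc, comp_nat_inv, ← Category.assoc, hj]
  exact isMaximalTorus_comp_iso (BcIso.bcCompIso π f G).symm hi1

end Groth.Agent.Sga3.H766.CartanEnd
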